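import Cfsg.Agent.Lib.Helper4.TCov.TLPerm

set_option autoImplicit false

/-! # Letters standing for words of odd length -/

namespace Cfsg.Agent.Lib.Helper4.TCov

open Cfsg.Agent.Lib.Helper6.TC

section

variable (px lb : ℕ → ℕ → ℕ) (q : ℕ)

theorem wapp_app (u v : List ℕ) (p : ℕ) : wapp px (u ++ v) p = wapp px v (wapp px u p) := by
  induction u generalizing p with
  | nil => rfl
  | cons c u ih => rw [List.cons_append, wapp_cons, wapp_cons, ih]

theorem zsum_append (u v : List ℕ) (p : ℕ) (s : ZMod q) :
    zsum px lb q (u ++ v) p s = zsum px lb q v (wapp px u p) (zsum px lb q u p s) := by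
  induction u generalizing p s with
  | nil => rfl
  | cons c u ih => rw [List.cons_append, zsum_cons, zsum_cons, wapp_cons, ih]

theorem zsum_shift (u : List ℕ) (p : ℕ) (s : ZMod q) :
    zsum px lb q u p s = (-1) ^ u.length * s + zsum px lb q u p 0 := by
  induction u generalizing p s with
  | nil => rw [zsum_nil, zsum_nil, List.length_nil, pow_zero, one_mul, add_zero]
  | cons c u ih =>
    rw [zsum_cons, zsum_cons, ih, ih (px c p) (-0 + ((lb c p : ℕ) : ZMod q)), List.length_cons]
    ring

theorem zsum_odd (u : List ℕ) (hu : u.length % 2 = 1) (p : ℕ) (s : ZMod q) :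
    zsum px lb q u p s = -s + zsum px lb q u p 0 := by
  rw [zsum_shift]
  have h2 : u.length = 2 * (u.length / 2) + 1 := by omega
  rw [h2, pow_succ, pow_mul]
  norm_num

/-- a word in letters some of which stand for words of odd length acts as its expansion -/
theorem expand_ok (N ncolx : ℕ) (ex : ℕ → List ℕ)
    (hlt : ∀ c < ncolx, ∀ p < N, px c p < N)
    (hex : ∀ c < ncolx, (ex c).length % 2 = 1 ∧ ∀ j < N, wapp px (ex c) j = px c j ∧
      zsum px lb q (ex c) j 0 = ((lb c j : ℕ) : ZMod q))
    (w : List ℕ) (hw : ∀ c ∈ w, c < ncolx) (j : ℕ) (hj : j < N) (s : ZMod q) :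
    wapp px (w.flatMap ex) j = wapp px w j ∧
      zsum px lb q (w.flatMap ex) j s = zsum px lb q w j s := by
  induction w generalizing j s with
  | nil => exact ⟨rfl, rfl⟩
  | cons c w ih =>
    have hc : c < ncolx := hw c List.mem_cons_self
    obtain ⟨hodd, hcj⟩ := hex c hc
    obtain ⟨h1, h2⟩ := hcj j hj
    have hlt' : px c j < N := hlt c hc j hj
    rw [List.flatMap_cons, wapp_app, zsum_append, wapp_cons, zsum_cons, h1,
      zsum_odd px lb q (ex c) hodd, h2]
    exact ih (fun d hd => hw d (List.mem_cons_of_mem _ hd)) (px c j) hlt' _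

end

end Cfsg.Agent.Lib.Helper4.TCov
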