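import Cfsg.Agent.Lib.Helper4.TCov.Main

set_option autoImplicit false

/-! # The even subgroup of a group generated by involutions is generated by the products of a
fixed generator with the generators -/

namespace Cfsg.Agent.Lib.Helper4.TCov

variable {α : Type} (rels : Set (FreeGroup α))

section

variable (hinv : ∀ x : α, PresentedGroup.mk rels (FreeGroup.of x) *
    PresentedGroup.mk rels (FreeGroup.of x) = 1) (x₀ : α)

/-- the products of the fixed generator with the generators -/
def pairSet : Set (PresentedGroup rels) :=
  {h | ∃ x : α, h = PresentedGroup.mk rels (FreeGroup.of x₀) *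
    PresentedGroup.mk rels (FreeGroup.of x)}

include hinv in
theorem mk_single (a : α × Bool) :
    PresentedGroup.mk rels (FreeGroup.mk [a]) = PresentedGroup.mk rels (FreeGroup.of a.1) := by
  obtain ⟨x, b⟩ := a
  cases b
  · have e : FreeGroup.mk [(x, false)] = (FreeGroup.of x)⁻¹ := rfl
    rw [e, map_inv, inv_eq_iff_mul_eq_one]
    exact hinv x
  · rfl

include hinv in
theorem pair_mem_closure (x y : α) :
    PresentedGroup.mk rels (FreeGroup.of x) * PresentedGroup.mk rels (FreeGroup.of y) ∈
      Subgroup.closure (pairSet rels x₀) := by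
  have e : PresentedGroup.mk rels (FreeGroup.of x) * PresentedGroup.mk rels (FreeGroup.of y) =
      (PresentedGroup.mk rels (FreeGroup.of x₀) * PresentedGroup.mk rels (FreeGroup.of x))⁻¹ *
        (PresentedGroup.mk rels (FreeGroup.of x₀) * PresentedGroup.mk rels (FreeGroup.of y)) := by
    have hx : (PresentedGroup.mk rels (FreeGroup.of x))⁻¹ =
        PresentedGroup.mk rels (FreeGroup.of x) := (eq_inv_of_mul_eq_one_left (hinv x)).symm
    rw [mul_inv_rev, hx, mul_assoc, inv_mul_cancel_left]
  rw [e]
  exact Subgroup.mul_mem _ (Subgroup.inv_mem _ (Subgroup.subset_closure ⟨x, rfl⟩))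
    (Subgroup.subset_closure ⟨y, rfl⟩)

include hinv in
theorem even_list_closure : ∀ L : List (α × Bool), sgn (FreeGroup.mk L) = 1 →
    PresentedGroup.mk rels (FreeGroup.mk L) ∈ Subgroup.closure (pairSet rels x₀)
  | [], _ => by
    have : FreeGroup.mk ([] : List (α × Bool)) = 1 := rfl
    rw [this, map_one]
    exact Subgroup.one_mem _
  | [a], h => by
    rw [sgn_mk_single] at h
    exact absurd h (by decide)
  | a :: b :: L, h => by
    rw [mk_cons_cons, map_mul, map_mul, sgn_mk_single, sgn_mk_single] at h
    have hL : sgn (FreeGroup.mk L) = 1 := by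
      have e : ((-1 : ℤˣ) * -1) = 1 := by decide
      rw [e, one_mul] at h
      exact h
    rw [mk_cons_cons, map_mul, map_mul, mk_single rels hinv a, mk_single rels hinv b]
    exact Subgroup.mul_mem _ (pair_mem_closure rels hinv x₀ a.1 b.1)
      (even_list_closure L hL)

include hinv in
/-- the images of the even words belong to the subgroup generated by the products -/
theorem even_mem_closure (f : FreeGroup α) (hf : sgn f = 1) :
    PresentedGroup.mk rels f ∈ Subgroup.closure (pairSet rels x₀) := by
  obtain ⟨L, hL⟩ := Quot.exists_rep f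
  have hL' : FreeGroup.mk L = f := hL
  rw [← hL']
  exact even_list_closure rels hinv x₀ L (by rw [hL']; exact hf)

end

end Cfsg.Agent.Lib.Helper4.TCov
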