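import Cfsg.Agent.Lib.Helper4.TCov.TLPerm

set_option autoImplicit false

/-! # The fast check of the relators on merged tables

A merged table `M c` gives at the point `p` the number `q * p' + l + 1`, where `p'` is the image of
the point under the letter `c` and `l < q` is its label. The words are given to the check as lists
of the table functions, so that no letter has to be looked up. Some of the letters may stand for
words of odd length in the other letters. -/

namespace Cfsg.Agent.Lib.Helper4.TCov

open Cfsg.Agent.Lib.Helper6.TC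

section

variable (M : ℕ → ℕ → ℕ) (q : ℕ)

/-- the images of the points in a merged table -/
def pxM (c p : ℕ) : ℕ := (M c p - 1) / q

/-- the labels in a merged table -/
def lbM (c p : ℕ) : ℕ := (M c p - 1) % q

/-- the walk along a word, given as a list of table functions; the two sums `a` and `b` are
swapped at every step; at the end the continuation `K` is called -/
noncomputable def walkF (K : ℕ → ℕ → ℕ → Bool) (w : List (ℕ → ℕ)) : ℕ → ℕ → ℕ → Bool :=
  List.rec (motive := fun _ => ℕ → ℕ → ℕ → Bool)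
    K
    (fun f _ ih p a b => Nat.rec (motive := fun _ => Bool) false
      (fun m _ => ih (Nat.div m q) (Nat.add b m) a) (f p))
    w

theorem walkF_nil (K : ℕ → ℕ → ℕ → Bool) (p a b : ℕ) : walkF q K [] p a b = K p a b := rfl

theorem walkF_cons (K : ℕ → ℕ → ℕ → Bool) (f : ℕ → ℕ) (w : List (ℕ → ℕ)) (p a b : ℕ) :
    walkF q K (f :: w) p a b = Nat.rec (motive := fun _ => Bool) false
      (fun m _ => walkF q K w (Nat.div m q) (Nat.add b m) a) (f p) := rfl

theorem walkF_spec (K : ℕ → ℕ → ℕ → Bool) (w : List ℕ) (p a b : ℕ)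
    (h : walkF q K (w.map M) p a b = true) :
    ∃ a' b', K (wapp (pxM M q) w p) a' b' = true ∧
      ((a' : ZMod q) - (b' : ZMod q)) =
        zsum (pxM M q) (lbM M q) q w p ((a : ZMod q) - (b : ZMod q)) := by
  induction w generalizing p a b with
  | nil =>
    rw [List.map_nil, walkF_nil] at h
    exact ⟨a, b, h, rfl⟩
  | cons c w ih =>
    rw [List.map_cons, walkF_cons] at h
    cases hM : M c p with
    | zero =>
      rw [hM] at h
      exact absurd h (by simp)
    | succ m =>
      rw [hM] at h
      have h' : walkF q K (w.map M) (Nat.div m q) (Nat.add b m) a = true := h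
      obtain ⟨a', b', h1, h2⟩ := ih _ _ _ h'
      have e1 : pxM M q c p = Nat.div m q := by
        unfold pxM
        rw [hM]
        rfl
      have e2 : lbM M q c p = m % q := by
        unfold lbM
        rw [hM]
        rfl
      rw [wapp_cons, zsum_cons, e1, e2]
      refine ⟨a', b', h1, ?_⟩
      rw [h2]
      congr 1
      show (((b + m : ℕ) : ℕ) : ZMod q) - (a : ZMod q) =
        -((a : ZMod q) - (b : ZMod q)) + ((m % q : ℕ) : ZMod q)
      rw [ZMod.natCast_mod]
      push_cast
      ring

/-- the check of a word at the point `j`: the walk comes back to `j` and the twisted sum of the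
labels is `e` -/
noncomputable def chkFW (j e : ℕ) (w : List (ℕ → ℕ)) : Bool :=
  walkF q (fun p a b => band (Nat.beq p j) (Nat.beq (Nat.mod a q) (Nat.mod (Nat.add b e) q)))
    w j 0 0

theorem chkFW_spec (j e : ℕ) (w : List ℕ) (h : chkFW q j e (w.map M) = true) :
    wapp (pxM M q) w j = j ∧ zsum (pxM M q) (lbM M q) q w j 0 = (e : ZMod q) := by
  obtain ⟨a', b', h1, h2⟩ := walkF_spec M q _ w j 0 0 h
  rw [band_eq_true, Nat.beq_eq, Nat.beq_eq] at h1
  refine ⟨h1.1, ?_⟩
  rw [Nat.cast_zero, sub_zero] at h2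
  rw [← h2]
  have h3 : ((a' : ℕ) : ZMod q) = ((Nat.add b' e : ℕ) : ZMod q) :=
    (ZMod.natCast_eq_natCast_iff' a' (Nat.add b' e) q).mpr h1.2
  rw [h3]
  show (((b' + e : ℕ) : ℕ) : ZMod q) - (b' : ZMod q) = (e : ZMod q)
  push_cast
  ring

/-- the check of a letter standing for a word at the point `j`: the entry of the table of the
letter is the end of the walk of the word with the twisted sum of its labels -/
noncomputable def chkFM (f : ℕ → ℕ) (j : ℕ) (w : List (ℕ → ℕ)) : Bool :=
  walkF q (fun p a b => Nat.beq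
      (Nat.succ (Nat.add (Nat.mul q p) (Nat.mod (Nat.add a (Nat.mul (Nat.pred q) b)) q))) (f j))
    w j 0 0

theorem chkFM_spec [NeZero q] (c j : ℕ) (w : List ℕ) (h : chkFM q (M c) j (w.map M) = true) :
    wapp (pxM M q) w j = pxM M q c j ∧
      zsum (pxM M q) (lbM M q) q w j 0 = ((lbM M q c j : ℕ) : ZMod q) := by
  have hq : 0 < q := Nat.pos_of_ne_zero (NeZero.ne q)
  obtain ⟨a', b', h1, h2⟩ := walkF_spec M q _ w j 0 0 h
  rw [Nat.beq_eq] at h1
  rw [Nat.cast_zero, sub_zero] at h2
  set p' := wapp (pxM M q) w j with hp'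
  set r := Nat.mod (Nat.add a' (Nat.mul (Nat.pred q) b')) q with hr
  have hrlt : r < q := Nat.mod_lt _ hq
  have hM : M c j - 1 = q * p' + r := by
    rw [← h1]
    rfl
  constructor
  · unfold pxM
    rw [hM, Nat.mul_add_div hq, Nat.div_eq_of_lt hrlt, Nat.add_zero]
  · rw [← h2]
    unfold lbM
    rw [hM, Nat.mul_add_mod, Nat.mod_eq_of_lt hrlt, hr]
    symm
    show ((((a' + (q - 1) * b') % q : ℕ) : ℕ) : ZMod q) = _
    rw [ZMod.natCast_mod]
    push_cast
    rw [Nat.cast_sub hq]
    simp only [Nat.cast_one, ZMod.natCast_self, zero_sub]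
    ring

/-- the check of a list of words with their sums at a point -/
noncomputable def chkFAll : List (List (ℕ → ℕ) × ℕ) → ℕ → Bool
  | [], _ => true
  | we :: L, j => band (chkFW q j we.2 we.1) (chkFAll L j)

theorem chkFAll_spec (L : List (List ℕ × ℕ)) (j : ℕ)
    (h : chkFAll q (L.map (fun we => (we.1.map M, we.2))) j = true) :
    ∀ we ∈ L, wapp (pxM M q) we.1 j = j ∧
      zsum (pxM M q) (lbM M q) q we.1 j 0 = ((we.2 : ℕ) : ZMod q) := by
  induction L with
  | nil => intro we hwe; simp at hwe
  | cons a L ih =>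
    rw [List.map_cons] at h
    unfold chkFAll at h
    rw [band_eq_true] at h
    intro we hwe
    rcases List.mem_cons.mp hwe with rfl | hm
    · exact chkFW_spec M q j we.2 we.1 h.1
    · exact ih h.2 we hm

/-- the check of a list of letters standing for words at a point -/
noncomputable def chkFMAll : List ((ℕ → ℕ) × List (ℕ → ℕ)) → ℕ → Bool
  | [], _ => true
  | fw :: L, j => band (chkFM q fw.1 j fw.2) (chkFMAll L j)

theorem chkFMAll_spec [NeZero q] (L : List (ℕ × List ℕ)) (j : ℕ)
    (h : chkFMAll q (L.map (fun cw => (M cw.1, cw.2.map M))) j = true) :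
    ∀ cw ∈ L, wapp (pxM M q) cw.2 j = pxM M q cw.1 j ∧
      zsum (pxM M q) (lbM M q) q cw.2 j 0 = ((lbM M q cw.1 j : ℕ) : ZMod q) := by
  induction L with
  | nil => intro cw hcw; simp at hcw
  | cons a L ih =>
    rw [List.map_cons] at h
    unfold chkFMAll at h
    rw [band_eq_true] at h
    intro cw hcw
    rcases List.mem_cons.mp hcw with rfl | hm
    · exact chkFM_spec M q cw.1 j cw.2 h.1
    · exact ih h.2 cw hm

/-- the check of the bounds of the entries of the tables of some letters (given as a list of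
table functions) at a point -/
noncomputable def chkBd (B : ℕ) : List (ℕ → ℕ) → ℕ → Bool
  | [], _ => true
  | f :: L, j => band (Nat.ble (f j) B) (chkBd B L j)

theorem chkBd_spec (B : ℕ) (cs : List ℕ) (j : ℕ) (h : chkBd B (cs.map M) j = true) :
    ∀ c ∈ cs, M c j ≤ B := by
  induction cs with
  | nil => intro c hc; simp at hc
  | cons a L ih =>
    rw [List.map_cons] at h
    unfold chkBd at h
    rw [band_eq_true, Nat.ble_eq] at h
    intro c hc
    rcases List.mem_cons.mp hc with rfl | hm
    · exact h.1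
    · exact ih h.2 c hm

/-- all the checks at a point -/
noncomputable def chkPt (B : ℕ) (LB : List (ℕ → ℕ)) (LM : List ((ℕ → ℕ) × List (ℕ → ℕ)))
    (LW : List (List (ℕ → ℕ) × ℕ)) (j : ℕ) : Bool :=
  band (chkBd B LB j) (band (chkFMAll q LM j) (chkFAll q LW j))

/-- all the checks on a range of points -/
noncomputable def chkPtRange (B : ℕ) (LB : List (ℕ → ℕ))
    (LM : List ((ℕ → ℕ) × List (ℕ → ℕ))) (LW : List (List (ℕ → ℕ) × ℕ)) (lo cnt : ℕ) : Bool :=
  allB (fun i => chkPt q B LB LM LW (lo + i)) cnt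

theorem chkPtRange_spec [NeZero q] (B : ℕ) (cs : List ℕ) (LM : List (ℕ × List ℕ))
    (LW : List (List ℕ × ℕ)) (lo cnt : ℕ)
    (h : chkPtRange q B (cs.map M) (LM.map (fun cw => (M cw.1, cw.2.map M)))
      (LW.map (fun we => (we.1.map M, we.2))) lo cnt = true)
    (j : ℕ) (h1 : lo ≤ j) (h2 : j < lo + cnt) :
    (∀ c ∈ cs, M c j ≤ B) ∧
    (∀ cw ∈ LM, wapp (pxM M q) cw.2 j = pxM M q cw.1 j ∧
      zsum (pxM M q) (lbM M q) q cw.2 j 0 = ((lbM M q cw.1 j : ℕ) : ZMod q)) ∧
    (∀ we ∈ LW, wapp (pxM M q) we.1 j = j ∧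
      zsum (pxM M q) (lbM M q) q we.1 j 0 = ((we.2 : ℕ) : ZMod q)) := by
  have := allB_spec h (j - lo) (by omega)
  have e : lo + (j - lo) = j := by omega
  rw [e] at this
  unfold chkPt at this
  rw [band_eq_true, band_eq_true] at this
  exact ⟨chkBd_spec M B cs j this.1, chkFMAll_spec M q LM j this.2.1,
    chkFAll_spec M q LW j this.2.2⟩

theorem pxM_lt (N c p : ℕ) (hq : 0 < q) (h : M c p ≤ q * N) (h0 : 0 < M c p) :
    pxM M q c p < N := by
  unfold pxM
  rw [Nat.div_lt_iff_lt_mul hq]
  have : M c p - 1 < q * N := by omega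
  rw [Nat.mul_comm] at this
  exact this

end

end Cfsg.Agent.Lib.Helper4.TCov
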