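import Mathlib

set_option autoImplicit false

/-! # Perfect central extensions -/

namespace Cfsg.Agent.Lib.Helper4.TCov

open scoped commutatorElement

/-- a central extension with kernel of exponent `p` of a perfect group, generated by elements
of orders prime to `p`, is perfect -/
theorem perfect_of_cover_p {Γ G : Type*} [Group Γ] [Group G] (p : ℕ) (σ : Γ →* G)
    (hs : Function.Surjective σ) (hG : commutator G = ⊤) (hc : σ.ker ≤ Subgroup.center Γ)
    (h3 : ∀ k ∈ σ.ker, k ^ p = 1) (T : Set Γ) (hT : Subgroup.closure T = ⊤)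
    (hord : ∀ x ∈ T, ∃ m : ℕ, Nat.Coprime m p ∧ x ^ m = 1) : commutator Γ = ⊤ := by
  have hmap : Subgroup.map σ (commutator Γ) = ⊤ := by
    rw [commutator_def, Subgroup.map_commutator, ← MonoidHom.range_eq_map,
      MonoidHom.range_eq_top.mpr hs, ← commutator_def, hG]
  have hcube : ∀ x : Γ, x ^ p ∈ commutator Γ := by
    intro x
    have hx : σ x ∈ Subgroup.map σ (commutator Γ) := by rw [hmap]; exact Subgroup.mem_top _
    obtain ⟨y, hy, hyx⟩ := hx
    have hk : y⁻¹ * x ∈ σ.ker := by
      rw [MonoidHom.mem_ker, map_mul, map_inv, hyx, inv_mul_cancel]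
    have hcomm : Commute y (y⁻¹ * x) := (Subgroup.mem_center_iff.mp (hc hk) y)
    have e : x = y * (y⁻¹ * x) := by group
    rw [e, hcomm.mul_pow, h3 _ hk, mul_one]
    exact Subgroup.pow_mem _ hy p
  rw [eq_top_iff, ← hT, Subgroup.closure_le]
  intro x hx
  obtain ⟨m, hm, hxm⟩ := hord x hx
  show x ∈ commutator Γ
  by_cases h1 : 1 < m
  · obtain ⟨a, -, ha⟩ := Nat.exists_mul_mod_eq_one_of_coprime hm.symm h1
    have e : x = (x ^ a) ^ p := by
      rw [← pow_mul, mul_comm a p, ← Nat.div_add_mod (p * a) m, ha, pow_add, pow_mul, hxm,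
        one_pow, one_mul, pow_one]
    rw [e]
    exact hcube _
  · by_cases h0 : m = 0
    · rw [h0, Nat.coprime_zero_left] at hm
      have := hcube x
      rw [hm, pow_one] at this
      exact this
    · have hm1 : m = 1 := by omega
      rw [hm1, pow_one] at hxm
      rw [hxm]
      exact Subgroup.one_mem _

/-- a finite simple group whose order is not a prime is perfect -/
theorem commutator_eq_top_of_simple {G : Type*} [Group G] [Finite G] (hs : IsSimpleGroup G)
    (hc : ¬ (Nat.card G).Prime) : commutator G = ⊤ := by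
  rcases hs.eq_bot_or_eq_top_of_normal (commutator G) inferInstance with h | h
  · exfalso
    apply hc
    have hcomm : ∀ a b : G, a * b = b * a := by
      intro a b
      have h1 : ⁅a, b⁆ ∈ commutator G :=
        Subgroup.commutator_mem_commutator (Subgroup.mem_top a) (Subgroup.mem_top b)
      rw [h, Subgroup.mem_bot, commutatorElement_eq_one_iff_mul_comm] at h1
      exact h1
    letI : CommGroup G := { (inferInstance : Group G) with mul_comm := hcomm }
    haveI : IsSimpleGroup G := hs
    exact IsSimpleGroup.prime_card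
  · exact h

end Cfsg.Agent.Lib.Helper4.TCov
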