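import Cfsg.Agent.Lib.Helper4.TCov.Sign
import Cfsg.Agent.Lib.Helper4.TCov.Perf
import Cfsg.Agent.Lib.Helper4.PCov.Cover3
import Cfsg.Prelude.Def_KGroupFacts

set_option autoImplicit false

/-! # The even part of a sign-twisted labelled action is a stem extension of the even subgroup -/

namespace Cfsg.Agent.Lib.Helper4.TCov

open Cfsg.Agent.Lib.Helper4.PCov

variable {Ω : Type} {p : ℕ} {α : Type} (rels : Set (FreeGroup α))
  (X : α → Equiv.Perm (Ω × ZMod p))

section sign

variable (hsgn : ∀ r ∈ rels, sgn r = 1)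

/-- the sign character of the presented group -/
def sgnG : PresentedGroup rels →* ℤˣ :=
  PresentedGroup.toGroup (f := fun _ => (-1 : ℤˣ)) hsgn

theorem sgnG_mk (f : FreeGroup α) : sgnG rels hsgn (PresentedGroup.mk rels f) = sgn f := rfl

/-- the even part of the cover -/
def Gam : Subgroup (cov rels X) := (sgnG rels hsgn).ker.comap (sig rels X)

/-- the projection of the even part -/
def sigK : Gam rels X hsgn →* (sgnG rels hsgn).ker := (sig rels X).subgroupComap _

theorem sigK_surjective : Function.Surjective (sigK rels X hsgn) :=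
  MonoidHom.subgroupComap_surjective_of_surjective _ _ (sig_surjective rels X)

theorem sigK_coe (w : Gam rels X hsgn) :
    ((sigK rels X hsgn w : (sgnG rels hsgn).ker) : PresentedGroup rels) =
      sig rels X (w : cov rels X) := rfl

theorem exists_even (w : cov rels X) (hw : w ∈ Gam rels X hsgn) :
    ∃ f, sgn f = 1 ∧ lam' rels X f = (w : PresentedGroup rels × Equiv.Perm (Ω × ZMod p)) := by
  obtain ⟨⟨g, y⟩, f, hf⟩ := w
  refine ⟨f, ?_, hf⟩
  have hg : PresentedGroup.mk rels f = g := congrArg Prod.fst hf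
  have h1 : sgnG rels hsgn g = 1 := hw
  rw [← hg, sgnG_mk] at h1
  exact h1

theorem lamC_mem (f : FreeGroup α) (hf : sgn f = 1) : lamC rels X f ∈ Gam rels X hsgn := by
  show sgnG rels hsgn (PresentedGroup.mk rels f) = 1
  rw [sgnG_mk, hf]

end sign

section cover

variable (hsgn : ∀ r ∈ rels, sgn r = 1)
  (hX : ∀ x c, X x * zs Ω p c = zs Ω p (-c) * X x)
  (hrel : ∀ r ∈ rels, ∃ c, lam X r = zs Ω p c)

include hX hrel in
/-- the kernel of the projection of the even part is central -/
theorem kerK_central : (sigK rels X hsgn).ker ≤ Subgroup.center (Gam rels X hsgn) := by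
  intro w hw
  have hw1 : sig rels X (w : cov rels X) = 1 := by
    have := MonoidHom.mem_ker.mp hw
    exact congrArg Subtype.val this
  obtain ⟨c, hc⟩ := ker_sig X hX rels hrel (w : cov rels X) hw1
  rw [Subgroup.mem_center_iff]
  intro γ
  obtain ⟨f, hf, hfe⟩ := exists_even rels X hsgn (γ : cov rels X) γ.2
  apply Subtype.ext
  apply Subtype.ext
  show ((γ : cov rels X) : PresentedGroup rels × Equiv.Perm (Ω × ZMod p)) *
      ((w : cov rels X) : PresentedGroup rels × Equiv.Perm (Ω × ZMod p)) =
    ((w : cov rels X) : PresentedGroup rels × Equiv.Perm (Ω × ZMod p)) *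
      ((γ : cov rels X) : PresentedGroup rels × Equiv.Perm (Ω × ZMod p))
  rw [hc, ← hfe]
  have hcm := lam_commute_of_even X hX f hf c
  ext1
  · show PresentedGroup.mk rels f * 1 = 1 * PresentedGroup.mk rels f
    rw [mul_one, one_mul]
  · exact hcm.eq

variable [hp : Fact p.Prime] [Nonempty Ω]
  (r0 : FreeGroup α) (hr0 : PresentedGroup.mk rels r0 = 1) (c0 : ZMod p) (hc0 : c0 ≠ 0)
  (hlam0 : lam X r0 = zs Ω p c0)

include hr0 hc0 hlam0 in
/-- all the shifts belong to the cover -/
theorem zsW_mem_cov (c : Multiplicative (ZMod p)) : zsW (Ω := Ω) rels c ∈ cov rels X := by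
  have hcard : Nat.card (Multiplicative (ZMod p)) = p := by
    rw [Nat.card_eq_fintype_card, Fintype.card_multiplicative]
    exact ZMod.card p
  have hpc : Fact (Nat.card (Multiplicative (ZMod p))).Prime := ⟨by rw [hcard]; exact hp.out⟩
  have htop : (cov rels X).comap (zsW (Ω := Ω) rels) = ⊤ := by
    rcases Subgroup.eq_bot_or_eq_top_of_prime_card ((cov rels X).comap (zsW (Ω := Ω) rels))
      with h | h
    · exfalso
      have hm : Multiplicative.ofAdd c0 ∈ (cov rels X).comap (zsW (Ω := Ω) rels) := by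
        rw [Subgroup.mem_comap, zsW_apply]
        refine ⟨r0, ?_⟩
        show ((PresentedGroup.mk rels r0, lam X r0) : PresentedGroup rels × _) = _
        rw [hr0, hlam0]
        rfl
      rw [h, Subgroup.mem_bot] at hm
      exact hc0 (Multiplicative.ofAdd.injective hm)
    · exact h
  have : c ∈ (cov rels X).comap (zsW (Ω := Ω) rels) := by rw [htop]; exact Subgroup.mem_top _
  exact this

/-- the shifts as elements of the kernel of the projection of the even part -/
def thetaK : Multiplicative (ZMod p) →* (sigK rels X hsgn).ker where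
  toFun c := ⟨⟨⟨zsW (Ω := Ω) rels c, zsW_mem_cov rels X r0 hr0 c0 hc0 hlam0 c⟩, by
      show sgnG rels hsgn 1 = 1
      exact map_one _⟩, by
    rw [MonoidHom.mem_ker]; rfl⟩
  map_one' := by
    apply Subtype.ext; apply Subtype.ext; apply Subtype.ext
    exact map_one (zsW (Ω := Ω) rels)
  map_mul' a b := by
    apply Subtype.ext; apply Subtype.ext; apply Subtype.ext
    exact map_mul (zsW (Ω := Ω) rels) a b

include hX hrel in
theorem thetaK_bijective :
    Function.Bijective (thetaK rels X hsgn r0 hr0 c0 hc0 hlam0) := by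
  constructor
  · intro c d h
    have h1 : zsW (Ω := Ω) rels c = zsW (Ω := Ω) rels d :=
      congrArg (fun k : (sigK rels X hsgn).ker =>
        (((k : Gam rels X hsgn) : cov rels X) :
          PresentedGroup rels × Equiv.Perm (Ω × ZMod p))) h
    have h2 : zsHom Ω p c = zsHom Ω p d := congrArg Prod.snd h1
    exact zsHom_injective h2
  · rintro ⟨w, hw⟩
    have hw1 : sig rels X (w : cov rels X) = 1 := by
      have := MonoidHom.mem_ker.mp hw
      exact congrArg Subtype.val this
    obtain ⟨c, hc⟩ := ker_sig X hX rels hrel (w : cov rels X) hw1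
    refine ⟨Multiplicative.ofAdd c, ?_⟩
    apply Subtype.ext; apply Subtype.ext; apply Subtype.ext
    rw [hc]
    rfl

end cover

section perfect

variable (hsgn : ∀ r ∈ rels, sgn r = 1)
  (hsq : ∀ x : α, lam' rels X (FreeGroup.of x * FreeGroup.of x) = 1)
  (hconn : ∀ x y : α, ∃ z : α, lam' rels X ((FreeGroup.of x * FreeGroup.of z) ^ 2) = 1 ∧
      lam' rels X ((FreeGroup.of z * FreeGroup.of y) ^ 2) = 1)

theorem sgn_pair (x y : α) : sgn (FreeGroup.of x * FreeGroup.of y) = 1 := by
  rw [map_mul, sgn_of, sgn_of]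
  decide

theorem sgn_mk_single (a : α × Bool) : sgn (FreeGroup.mk [a]) = -1 := by
  obtain ⟨x, b⟩ := a
  cases b
  · have : FreeGroup.mk [(x, false)] = (FreeGroup.of x)⁻¹ := rfl
    rw [this, map_inv, sgn_of]
    decide
  · exact sgn_of x

theorem mk_cons_cons (a b : α × Bool) (L : List (α × Bool)) :
    FreeGroup.mk (a :: b :: L) = FreeGroup.mk [a] * FreeGroup.mk [b] * FreeGroup.mk L := by
  rw [FreeGroup.mul_mk, FreeGroup.mul_mk]
  rfl

/-- the elements of order at most two of the even part -/
def T2 : Set (Gam rels X hsgn) := {γ | γ ^ 2 = 1}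

include hsq in
theorem lamC_mk_single (a : α × Bool) :
    lamC rels X (FreeGroup.mk [a]) = lamC rels X (FreeGroup.of a.1) := by
  obtain ⟨x, b⟩ := a
  cases b
  · have e : FreeGroup.mk [(x, false)] = (FreeGroup.of x)⁻¹ := rfl
    rw [e, map_inv, inv_eq_iff_mul_eq_one, ← map_mul]
    apply Subtype.ext
    exact hsq x
  · rfl

include hsq hconn in
theorem pair_mem (x y : α) (γ : Gam rels X hsgn)
    (hγ : (γ : cov rels X) = lamC rels X (FreeGroup.of x * FreeGroup.of y)) :
    γ ∈ Subgroup.closure (T2 rels X hsgn) := by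
  obtain ⟨z, h1, h2⟩ := hconn x y
  let γ₁ : Gam rels X hsgn :=
    ⟨lamC rels X (FreeGroup.of x * FreeGroup.of z), lamC_mem rels X hsgn _ (sgn_pair x z)⟩
  let γ₂ : Gam rels X hsgn :=
    ⟨lamC rels X (FreeGroup.of z * FreeGroup.of y), lamC_mem rels X hsgn _ (sgn_pair z y)⟩
  have e : γ = γ₁ * γ₂ := by
    apply Subtype.ext
    show (γ : cov rels X) = lamC rels X (FreeGroup.of x * FreeGroup.of z) *
      lamC rels X (FreeGroup.of z * FreeGroup.of y)
    have hz : lamC rels X (FreeGroup.of z * FreeGroup.of z) = 1 := Subtype.ext (hsq z)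
    have e2 : FreeGroup.of x * FreeGroup.of z * (FreeGroup.of z * FreeGroup.of y) =
        FreeGroup.of x * (FreeGroup.of z * FreeGroup.of z) * FreeGroup.of y := by group
    rw [hγ, ← map_mul, e2, map_mul (lamC rels X) (FreeGroup.of x * (FreeGroup.of z * FreeGroup.of z)),
      map_mul (lamC rels X) (FreeGroup.of x) (FreeGroup.of z * FreeGroup.of z), hz, mul_one,
      ← map_mul]
  rw [e]
  apply Subgroup.mul_mem
  · apply Subgroup.subset_closure
    show γ₁ ^ 2 = 1
    apply Subtype.ext
    apply Subtype.ext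
    show ((lamC rels X (FreeGroup.of x * FreeGroup.of z) ^ 2 : cov rels X) :
      PresentedGroup rels × Equiv.Perm (Ω × ZMod p)) = 1
    rw [← map_pow]
    exact h1
  · apply Subgroup.subset_closure
    show γ₂ ^ 2 = 1
    apply Subtype.ext
    apply Subtype.ext
    show ((lamC rels X (FreeGroup.of z * FreeGroup.of y) ^ 2 : cov rels X) :
      PresentedGroup rels × Equiv.Perm (Ω × ZMod p)) = 1
    rw [← map_pow]
    exact h2

include hsq hconn in
theorem even_list_mem : ∀ L : List (α × Bool), sgn (FreeGroup.mk L) = 1 →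
    ∀ γ : Gam rels X hsgn, (γ : cov rels X) = lamC rels X (FreeGroup.mk L) →
      γ ∈ Subgroup.closure (T2 rels X hsgn)
  | [], _, γ, hγ => by
    have : γ = 1 := by
      apply Subtype.ext
      rw [hγ]
      exact map_one _
    rw [this]
    exact Subgroup.one_mem _
  | [a], h, _, _ => by
    rw [sgn_mk_single] at h
    exact absurd h (by decide)
  | a :: b :: L, h, γ, hγ => by
    rw [mk_cons_cons, map_mul, map_mul, sgn_mk_single, sgn_mk_single] at h
    have hL : sgn (FreeGroup.mk L) = 1 := by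
      have e : ((-1 : ℤˣ) * -1) = 1 := by decide
      rw [e, one_mul] at h
      exact h
    let γ₁ : Gam rels X hsgn :=
      ⟨lamC rels X (FreeGroup.of a.1 * FreeGroup.of b.1),
        lamC_mem rels X hsgn _ (sgn_pair a.1 b.1)⟩
    have h1 : γ₁ ∈ Subgroup.closure (T2 rels X hsgn) :=
      pair_mem rels X hsgn hsq hconn a.1 b.1 γ₁ rfl
    have h2 : γ₁⁻¹ * γ ∈ Subgroup.closure (T2 rels X hsgn) := by
      apply even_list_mem L hL
      show (lamC rels X (FreeGroup.of a.1 * FreeGroup.of b.1))⁻¹ * (γ : cov rels X) = _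
      rw [hγ, mk_cons_cons]
      simp only [map_mul]
      rw [lamC_mk_single rels X hsq a, lamC_mk_single rels X hsq b, inv_mul_cancel_left]
    have e : γ = γ₁ * (γ₁⁻¹ * γ) := by rw [mul_inv_cancel_left]
    rw [e]
    exact Subgroup.mul_mem _ h1 h2

include hsq hconn in
/-- the even part is generated by its elements of order at most two -/
theorem closure_T2 : Subgroup.closure (T2 rels X hsgn) = ⊤ := by
  rw [eq_top_iff]
  intro γ _
  obtain ⟨f, hf, hfe⟩ := exists_even rels X hsgn (γ : cov rels X) γ.2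
  obtain ⟨L, hL⟩ := Quot.exists_rep f
  have hL' : FreeGroup.mk L = f := hL
  apply even_list_mem rels X hsgn hsq hconn L (by rw [hL']; exact hf) γ
  apply Subtype.ext
  rw [hL', lamC_coe, hfe]

end perfect

/-- **the even part of the twisted cover**: a stem extension of the even subgroup of the presented
group, with kernel cyclic of order `p` -/
theorem exists_even_cover [hp : Fact p.Prime] [Nonempty Ω] [Finite Ω]
    [Finite (PresentedGroup rels)]
    (hsgn : ∀ r ∈ rels, sgn r = 1)
    (hX : ∀ x c, X x * zs Ω p c = zs Ω p (-c) * X x)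
    (hrel : ∀ r ∈ rels, ∃ c, lam X r = zs Ω p c)
    (r0 : FreeGroup α) (hr0 : PresentedGroup.mk rels r0 = 1) (c0 : ZMod p) (hc0 : c0 ≠ 0)
    (hlam0 : lam X r0 = zs Ω p c0)
    (hsq : ∀ x : α, lam' rels X (FreeGroup.of x * FreeGroup.of x) = 1)
    (hconn : ∀ x y : α, ∃ z : α, lam' rels X ((FreeGroup.of x * FreeGroup.of z) ^ 2) = 1 ∧
      lam' rels X ((FreeGroup.of z * FreeGroup.of y) ^ 2) = 1)
    (hperf : commutator (sgnG rels hsgn).ker = ⊤)
    (hodd : Nat.Coprime 2 p) :
    ∃ (Γ₀ : Type) (_ : Group Γ₀) (_ : Finite Γ₀) (σ₀ : Γ₀ →* (sgnG rels hsgn).ker),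
      Cfsg.IsStemExtension σ₀ ∧ Nonempty (σ₀.ker ≃* Multiplicative (ZMod p)) := by
  haveI : NeZero p := ⟨hp.out.ne_zero⟩
  have hcen := kerK_central rels X hsgn hX hrel
  let eqv : Multiplicative (ZMod p) ≃* (sigK rels X hsgn).ker :=
    MulEquiv.ofBijective (thetaK rels X hsgn r0 hr0 c0 hc0 hlam0)
      (thetaK_bijective rels X hsgn hX hrel r0 hr0 c0 hc0 hlam0)
  have hcard : Nat.card (sigK rels X hsgn).ker = p := by
    rw [← Nat.card_congr eqv.toEquiv, Nat.card_eq_fintype_card, Fintype.card_multiplicative]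
    exact ZMod.card p
  have hexp : ∀ k ∈ (sigK rels X hsgn).ker, k ^ p = 1 := by
    intro k hk
    have h := pow_card_eq_one' (G := (sigK rels X hsgn).ker) (x := ⟨k, hk⟩)
    rw [hcard] at h
    exact congrArg Subtype.val h
  have hpf : commutator (Gam rels X hsgn) = ⊤ :=
    perfect_of_cover_p p (sigK rels X hsgn) (sigK_surjective rels X hsgn) hperf hcen hexp
      (T2 rels X hsgn) (closure_T2 rels X hsgn hsq hconn)
      (fun x hx => ⟨2, hodd, hx⟩)
  refine ⟨Gam rels X hsgn, inferInstance, inferInstance, sigK rels X hsgn,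
    ⟨sigK_surjective rels X hsgn, hcen, ?_⟩, ⟨eqv.symm⟩⟩
  rw [hpf]
  exact le_top

end Cfsg.Agent.Lib.Helper4.TCov
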