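import Cfsg.Agent.Lib.Helper4.PCov.Cover

set_option autoImplicit false

/-! # Labelled permutation actions twisted by a sign

The generators of a presented group act on `Ω × ZMod p` by permutations which invert the shifts of
the second coordinate (every generator is odd). The relators, which are even words, act as shifts.
The even part of the group generated by the pairs of the generators is then a central extension
of the subgroup of the even elements of the presented group. -/

namespace Cfsg.Agent.Lib.Helper4.TCov

open Cfsg.Agent.Lib.Helper4.PCov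

variable {Ω : Type} {p : ℕ} {α : Type}

/-- the sign of a word: every generator is odd -/
def sgn : FreeGroup α →* ℤˣ := FreeGroup.lift (fun _ => -1)

theorem sgn_of (x : α) : sgn (FreeGroup.of x) = -1 := FreeGroup.lift_apply_of

/-- the action of a sign on the integers modulo `p` -/
def sact (u : ℤˣ) (c : ZMod p) : ZMod p := ((u : ℤ) : ZMod p) * c

theorem sact_one (c : ZMod p) : sact 1 c = c := by
  unfold sact
  rw [Units.val_one, Int.cast_one, one_mul]

theorem sact_neg_one (c : ZMod p) : sact (-1) c = -c := by
  unfold sact
  rw [Units.val_neg, Units.val_one, Int.cast_neg, Int.cast_one, neg_one_mul]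

theorem sact_mul (u v : ℤˣ) (c : ZMod p) : sact (u * v) c = sact u (sact v c) := by
  unfold sact
  rw [Units.val_mul, Int.cast_mul, mul_assoc]

theorem sact_inv (u : ℤˣ) (c : ZMod p) : sact u⁻¹ c = sact u c := by
  rcases Int.units_eq_one_or u with h | h <;> rw [h] <;> simp

section

variable (X : α → Equiv.Perm (Ω × ZMod p))
  (hX : ∀ x c, X x * zs Ω p c = zs Ω p (-c) * X x)
include hX

/-- a word conjugates a shift to the shift by the signed amount -/
theorem lam_conj (f : FreeGroup α) (c : ZMod p) :
    lam X f * zs Ω p c = zs Ω p (sact (sgn f) c) * lam X f := by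
  induction f using FreeGroup.induction_on generalizing c with
  | C1 => rw [map_one, map_one, sact_one, one_mul, mul_one]
  | of x => rw [lam, FreeGroup.lift_apply_of, sgn_of, sact_neg_one]; exact hX x c
  | inv_of x ih =>
    rw [map_inv, map_inv, sact_inv]
    have h := ih (sact (sgn (FreeGroup.of x)) c)
    rw [← sact_mul, sgn_of] at h
    have e : ((-1 : ℤˣ) * -1) = 1 := by decide
    rw [e, sact_one] at h
    rw [sgn_of]
    have h2 : zs Ω p (sact (-1) c) =
        (lam X (FreeGroup.of x))⁻¹ * zs Ω p c * lam X (FreeGroup.of x) := by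
      rw [mul_assoc, ← h, inv_mul_cancel_left]
    rw [h2, mul_inv_cancel_right]
  | mul a b iha ihb =>
    rw [map_mul, map_mul, mul_assoc, ihb c, ← mul_assoc, iha, mul_assoc, sact_mul]

/-- an even word commutes with the shifts -/
theorem lam_commute_of_even (f : FreeGroup α) (hf : sgn f = 1) (c : ZMod p) :
    Commute (lam X f) (zs Ω p c) := by
  have h := lam_conj X hX f c
  rw [hf, sact_one] at h
  exact h

variable (rels : Set (FreeGroup α)) (hrel : ∀ r ∈ rels, ∃ c, lam X r = zs Ω p c)
include hrel

/-- the elements of the normal closure of the relators act as shifts -/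
theorem lam_mem_range (f : FreeGroup α) (hf : f ∈ Subgroup.normalClosure rels) :
    ∃ c, lam X f = zs Ω p c := by
  let Z : Subgroup (FreeGroup α) :=
    { carrier := {f | ∃ c, lam X f = zs Ω p c}
      one_mem' := ⟨0, by rw [map_one, zs_zero]⟩
      mul_mem' := by
        rintro a b ⟨c, hc⟩ ⟨d, hd⟩
        exact ⟨c + d, by rw [map_mul, hc, hd, zs_mul]⟩
      inv_mem' := by
        rintro a ⟨c, hc⟩
        refine ⟨-c, ?_⟩
        rw [map_inv, hc, inv_eq_iff_mul_eq_one, zs_mul, add_neg_cancel, zs_zero] }
  have hZn : Z.Normal := by
    constructor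
    rintro a ⟨c, hc⟩ g
    refine ⟨sact (sgn g) c, ?_⟩
    rw [map_mul, map_mul, hc, map_inv, lam_conj X hX g c, mul_inv_cancel_right]
  have hle : Subgroup.normalClosure rels ≤ Z :=
    Subgroup.normalClosure_le_normal (fun r hr => hrel r hr)
  exact hle hf

/-- the kernel of the projection consists of shifts -/
theorem ker_sig (w : cov rels X) (hw : sig rels X w = 1) :
    ∃ c, (w : PresentedGroup rels × Equiv.Perm (Ω × ZMod p)) = (1, zs Ω p c) := by
  obtain ⟨⟨g, y⟩, f, hf⟩ := w
  have h1 : g = 1 := hw
  subst h1
  have hg : PresentedGroup.mk rels f = 1 := congrArg Prod.fst hf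
  have hy : lam X f = y := congrArg Prod.snd hf
  have hmem : f ∈ Subgroup.normalClosure rels := (QuotientGroup.eq_one_iff f).mp hg
  obtain ⟨c, hc⟩ := lam_mem_range X hX rels hrel f hmem
  refine ⟨c, ?_⟩
  show ((1 : PresentedGroup rels), y) = (1, zs Ω p c)
  rw [← hy, hc]

end

end Cfsg.Agent.Lib.Helper4.TCov
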