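import Cfsg.Agent.Lib.Helper4.TCov.Sign
import Cfsg.Agent.Lib.Helper6.TC1
import Cfsg.Agent.Lib.Helper6.TC8

set_option autoImplicit false

/-! # Sign-twisted labelled permutations of the letters of a table, the check of the relators,
and the action of the words -/

namespace Cfsg.Agent.Lib.Helper4.TCov

open Cfsg.Agent.Lib.Helper6.TC Cfsg.Agent.Lib.Helper4.PCov

section walk

variable (px lb : ℕ → ℕ → ℕ)

/-- the twisted sum of the labels along a word: every step negates the sum so far -/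
def zsum (q : ℕ) : List ℕ → ℕ → ZMod q → ZMod q
  | [], _, s => s
  | c :: w, p, s => zsum q w (px c p) (-s + ((lb c p : ℕ) : ZMod q))

theorem zsum_nil (q p : ℕ) (s : ZMod q) : zsum px lb q [] p s = s := rfl

theorem zsum_cons (q c : ℕ) (w : List ℕ) (p : ℕ) (s : ZMod q) :
    zsum px lb q (c :: w) p s = zsum px lb q w (px c p) (-s + ((lb c p : ℕ) : ZMod q)) := rfl

end walk

section perm

variable {px : ℕ → ℕ → ℕ} {N ncol INV : ℕ} (hP : PHyp px N ncol INV) (lb : ℕ → ℕ → ℕ) (q : ℕ)

/-- the twisted labelled permutation of a letter -/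
noncomputable def Tc (c : ℕ) : Equiv.Perm (Fin N × ZMod q) :=
  Equiv.prodShear (colPerm hP c)
    (fun i => (Equiv.neg (ZMod q)).trans (Equiv.addRight ((lb c i.val : ℕ) : ZMod q)))

theorem Tc_apply (c : ℕ) (x : Fin N × ZMod q) :
    Tc hP lb q c x = (colPerm hP c x.1, -x.2 + ((lb c x.1.val : ℕ) : ZMod q)) := rfl

theorem Tc_conj (c : ℕ) (e : ZMod q) :
    Tc hP lb q c * zs (Fin N) q e = zs (Fin N) q (-e) * Tc hP lb q c := by
  ext x
  · rfl
  · show -(x.2 + e) + ((lb c x.1.val : ℕ) : ZMod q) = -x.2 + ((lb c x.1.val : ℕ) : ZMod q) + -e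
    ring

theorem Tc_inv_conj (c : ℕ) (e : ZMod q) :
    (Tc hP lb q c)⁻¹ * zs (Fin N) q e = zs (Fin N) q (-e) * (Tc hP lb q c)⁻¹ := by
  have h := Tc_conj hP lb q c (-e)
  rw [neg_neg] at h
  rw [inv_mul_eq_iff_eq_mul, ← mul_assoc, h, mul_assoc, mul_inv_cancel, mul_one]

/-- the product of the twisted labelled permutations along a word, the first letter acting
first -/
noncomputable def Tw : List ℕ → Equiv.Perm (Fin N × ZMod q)
  | [] => 1
  | c :: w => Tw w * Tc hP lb q c

theorem Tw_nil : Tw hP lb q [] = 1 := rfl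

theorem Tw_cons (c : ℕ) (w : List ℕ) : Tw hP lb q (c :: w) = Tw hP lb q w * Tc hP lb q c := rfl

theorem Tw_conj (w : List ℕ) (e : ZMod q) :
    Tw hP lb q w * zs (Fin N) q e = zs (Fin N) q ((-1) ^ w.length * e) * Tw hP lb q w := by
  induction w generalizing e with
  | nil => rw [Tw_nil, List.length_nil, pow_zero, one_mul, one_mul, mul_one]
  | cons c w ih =>
    rw [Tw_cons, mul_assoc, Tc_conj, ← mul_assoc, ih, mul_assoc, List.length_cons]
    congr 2
    ring

theorem Tw_commute (w : List ℕ) (hev : w.length % 2 = 0) (e : ZMod q) :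
    Tw hP lb q w * zs (Fin N) q e = zs (Fin N) q e * Tw hP lb q w := by
  rw [Tw_conj]
  have h2 : w.length = 2 * (w.length / 2) := by omega
  rw [h2, pow_mul]
  norm_num

theorem Tw_apply (w : List ℕ) (hw : ∀ c ∈ w, c < ncol) (x : Fin N × ZMod q) :
    ((Tw hP lb q w x).1.val = wapp px w x.1.val) ∧
      (Tw hP lb q w x).2 = zsum px lb q w x.1.val x.2 := by
  induction w generalizing x with
  | nil =>
    rw [Tw_nil, wapp_nil, zsum_nil]
    exact ⟨rfl, rfl⟩
  | cons c w ih =>
    have hc : c < ncol := hw c List.mem_cons_self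
    obtain ⟨h1, h2⟩ := ih (fun d hd => hw d (List.mem_cons_of_mem _ hd)) (Tc hP lb q c x)
    rw [Tw_cons, Equiv.Perm.mul_apply, wapp_cons, zsum_cons]
    constructor
    · rw [h1, Tc_apply, colPerm_apply hP hc]
    · rw [h2, Tc_apply, colPerm_apply hP hc]

/-- a word of even length whose walk is closed with twisted sum of labels `e` acts as the
shift by `e` -/
theorem Tw_eq_zs (w : List ℕ) (hw : ∀ c ∈ w, c < ncol) (hev : w.length % 2 = 0)
    (e : ZMod q) (h : ∀ j < N, wapp px w j = j ∧ zsum px lb q w j 0 = e) :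
    Tw hP lb q w = zs (Fin N) q e := by
  -- the value at the points with second coordinate zero
  have h0 : ∀ i : Fin N, Tw hP lb q w (i, 0) = (i, e) := by
    intro i
    obtain ⟨h1, h2⟩ := Tw_apply hP lb q w hw (i, 0)
    obtain ⟨h3, h4⟩ := h i.val i.isLt
    ext
    · rw [h1, h3]
    · rw [h2, h4]
  ext1 x
  have hx : x = zs (Fin N) q x.2 (x.1, 0) := by
    rw [zs_apply, zero_add]
  have hcm := Tw_commute hP lb q w hev x.2
  calc Tw hP lb q w x = (Tw hP lb q w * zs (Fin N) q x.2) (x.1, 0) := by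
        rw [Equiv.Perm.mul_apply, ← hx]
    _ = (zs (Fin N) q x.2 * Tw hP lb q w) (x.1, 0) := by rw [hcm]
    _ = zs (Fin N) q x.2 (x.1, e) := by rw [Equiv.Perm.mul_apply, h0]
    _ = zs (Fin N) q e x := by
      rw [zs_apply, zs_apply]
      ext
      · rfl
      · show e + x.2 = x.2 + e
        ring

end perm

section lam

variable {px : ℕ → ℕ → ℕ} {N ncol INV : ℕ} (hP : PHyp px N ncol INV) (lb : ℕ → ℕ → ℕ) (q : ℕ)
  {Gen : Type} (gc : ℕ → Gen × Bool) (col : Gen → ℕ)

/-- the twisted labelled permutation of a generator -/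
noncomputable def Xt (x : Gen) : Equiv.Perm (Fin N × ZMod q) := (Tc hP lb q (col x))⁻¹

theorem Xt_conj (x : Gen) (e : ZMod q) :
    Xt hP lb q col x * zs (Fin N) q e = zs (Fin N) q (-e) * Xt hP lb q col x :=
  Tc_inv_conj hP lb q (col x) e

variable (hC : CHyp gc col ncol INV)
  (hinvT : ∀ c < ncol, Tc hP lb q (invc INV c) = (Tc hP lb q c)⁻¹)
include hC hinvT

theorem lam_ceOf_t {c : ℕ} (hc : c < ncol) :
    lam (Xt hP lb q col) (ceOf gc c) = (Tc hP lb q c)⁻¹ := by
  unfold ceOf lam
  cases hb : (gc c).2 with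
  | false =>
    rw [cond_false, FreeGroup.lift_apply_of, Xt, hC.hgc c hc hb]
  | true =>
    rw [cond_true, map_inv, FreeGroup.lift_apply_of, Xt, inv_inv]
    have h1 := hC.hgc' c hc hb
    have h2 := hinvT _ (hC.hcol (gc c).1).1
    rw [h1] at h2
    rw [h2, inv_inv]

theorem lam_wordElt_t (w : List ℕ) (hw : ∀ c ∈ w, c < ncol) :
    lam (Xt hP lb q col) (wordElt gc w) = (Tw hP lb q w)⁻¹ := by
  induction w with
  | nil => rw [wordElt_nil, map_one, Tw_nil, inv_one]
  | cons c w ih =>
    rw [wordElt_cons, map_mul, lam_ceOf_t hP lb q gc col hC hinvT (hw c List.mem_cons_self),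
      ih (fun d hd => hw d (List.mem_cons_of_mem _ hd)), Tw_cons, mul_inv_rev]

/-- the element of a word of even length whose walk is closed with twisted sum of labels `e` acts
as the shift by `-e` -/
theorem lam_wordElt_eq_zs_t (w : List ℕ) (hw : ∀ c ∈ w, c < ncol)
    (hev : w.length % 2 = 0) (e : ZMod q)
    (h : ∀ j < N, wapp px w j = j ∧ zsum px lb q w j 0 = e) :
    lam (Xt hP lb q col) (wordElt gc w) = zs (Fin N) q (-e) := by
  rw [lam_wordElt_t hP lb q gc col hC hinvT w hw, Tw_eq_zs hP lb q w hw hev e h,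
    inv_eq_iff_mul_eq_one, zs_mul, add_neg_cancel, zs_zero]

/-- the same for the rotation of the word by one letter: the shift is negated -/
theorem lam_wordElt_rotate_t (w : List ℕ) (hw : ∀ c ∈ w, c < ncol) (e : ZMod q)
    (h : lam (Xt hP lb q col) (wordElt gc w) = zs (Fin N) q e) :
    ∃ e', lam (Xt hP lb q col) (wordElt gc (w.rotate 1)) = zs (Fin N) q e' ∧ (e = 0 → e' = 0) := by
  cases w with
  | nil => exact ⟨e, h, fun h => h⟩
  | cons c t =>
    have e1 : (c :: t).rotate 1 = t ++ [c] := by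
      rw [List.rotate_cons_succ, List.rotate_zero]
    rw [e1, wordElt_append, wordElt_cons, wordElt_nil, mul_one]
    rw [wordElt_cons, map_mul] at h
    rw [map_mul]
    have hc : c < ncol := hw c List.mem_cons_self
    have hcj : lam (Xt hP lb q col) (ceOf gc c) * zs (Fin N) q (-e) =
        zs (Fin N) q e * lam (Xt hP lb q col) (ceOf gc c) := by
      rw [lam_ceOf_t hP lb q gc col hC hinvT hc]
      have := Tc_inv_conj hP lb q c (-e)
      rw [neg_neg] at this
      exact this
    have h2 : lam (Xt hP lb q col) (wordElt gc t) =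
        (lam (Xt hP lb q col) (ceOf gc c))⁻¹ * zs (Fin N) q e := by
      rw [← h, inv_mul_cancel_left]
    refine ⟨-e, ?_, fun h0 => by rw [h0, neg_zero]⟩
    rw [h2, mul_assoc, ← hcj, inv_mul_cancel_left]

end lam

end Cfsg.Agent.Lib.Helper4.TCov
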